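import Cfsg.Agent.Mrg.Omega.FOne.Plug
import Cfsg.Agent.Mrg.Omega.FOne.Act.End
import Cfsg.Agent.Mrg.Omega.ML.Ex.RowTitsX
import Cfsg.Agent.Mrg.Omega.FOne.ThmA.RedDef

section


/-!
# (F1'), the K-route: from the additive section `Fs` to the multiplicative section `Ps` (helper854)

`Fs.ps` : `Fs X y θ T B`, (ML) and (nmax) give `Ps` for `X` acting on `Multiplicative W` and on `QM y = W / y`.
`Fs.nmax` : (nmax) (helper728);  `Fs.psR` : with `FsLa`, `PsR`.
-/

set_option autoImplicit false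
set_option linter.unusedSectionVars false

namespace Cfsg.Agent.Omega.FOne.Glue

open Subgroup Cfsg
open Cfsg.Agent.ZN (o2)
open Cfsg.Agent.Omega.FOne.Tvw (Base z2 addself)
open Cfsg.Agent.Omega.FOne.NOv
open Cfsg.Agent.ClassTwoFusion.Quad
open Cfsg.Agent.MinSimple.VModule (o2_isPGroup o2_le le_o2 le_normalizer_o2)

universe u

/-- `o2` of the image of a subgroup of `X` -/
theorem o2_map {G : Type*} [Group G] {X : Subgroup G} (R : Subgroup X) :
    (o2 (R.map X.subtype)).subgroupOf X ≤ o2 R := by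
  refine le_o2 ?_ ?_ ?_
  · intro x hx
    rw [mem_subgroupOf] at hx
    have h1 := o2_le _ hx
    obtain ⟨r, hr, he⟩ := mem_map.mp h1
    have : r = x := Subtype.ext he
    rwa [← this]
  · exact (o2_isPGroup _).comap_subtype
  · have key : ∀ r ∈ R, ∀ x ∈ (o2 (R.map X.subtype)).subgroupOf X,
        r * x * r⁻¹ ∈ (o2 (R.map X.subtype)).subgroupOf X := by
      intro r hr x hx
      rw [mem_subgroupOf] at hx ⊢
      have h1 : (r : G) ∈ R.map X.subtype := ⟨r, hr, rfl⟩
      have h2 := le_normalizer_o2 _ h1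
      rw [mem_normalizer_iff] at h2
      exact (h2 _).mp hx
    intro r hr
    rw [mem_normalizer_iff]
    intro x
    refine ⟨key r hr x, fun hx => ?_⟩
    have h1 := key r⁻¹ (inv_mem hr) _ hx
    have h2 : r⁻¹ * (r * x * r⁻¹) * r⁻¹⁻¹ = x := by group
    rwa [h2] at h1

section ps

variable {W : Type u} [AddCommGroup W] [Module (ZMod 2) W]

/-- the four-group `{0, y, θ, θ + y}` -/
def ln (y θ : W) : Submodule (ZMod 2) W where
  carrier := {v | v = 0 ∨ v = y ∨ v = θ ∨ v = θ + y}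
  zero_mem' := Or.inl rfl
  add_mem' := by
    have e1 : y + y = 0 := addself y
    have e2 : θ + θ = 0 := addself θ
    have e3 : y + (θ + y) = θ := by rw [add_comm θ y, ← add_assoc, e1, zero_add]
    have e4 : θ + (θ + y) = y := by rw [← add_assoc, e2, zero_add]
    have e5 : θ + y + y = θ := by rw [add_assoc, e1, add_zero]
    have e6 : θ + y + θ = y := by rw [add_comm, e4]
    have e7 : θ + y + (θ + y) = 0 := addself _
    have e8 : y + θ = θ + y := add_comm _ _
    rintro a b (h | h | h | h) (h' | h' | h' | h') <;> rw [h, h'] <;>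
      simp only [Set.mem_ofPred_eq, e1, e2, e3, e4, e5, e6, e7, e8, zero_add, add_zero, true_or, or_true]
  smul_mem' := by
    intro c v hv
    rcases z2 c with rfl | rfl
    · rw [zero_smul]; exact Or.inl rfl
    · rw [one_smul]; exact hv

theorem mem_ln {y θ v : W} : v ∈ ln y θ ↔ v = 0 ∨ v = y ∨ v = θ ∨ v = θ + y := Iff.rfl

theorem card_ln {y θ : W} (y0 : y ≠ 0) (θ0 : θ ≠ 0) (θy : θ ≠ y) : Nat.card (ln y θ) = 4 := by
  classical
  have h1 : ((({0, y, θ, θ + y} : Finset W) : Set W)) = (ln y θ : Set W) := by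
    ext v
    simp only [Finset.coe_insert, Finset.coe_singleton, Set.mem_insert_iff, Set.mem_singleton_iff, SetLike.mem_coe,
      mem_ln]
  have n1 : (0 : W) ∉ ({y, θ, θ + y} : Finset W) := by
    simp only [Finset.mem_insert, Finset.mem_singleton]
    rintro (h | h | h)
    · exact y0 h.symm
    · exact θ0 h.symm
    · exact θy (Tvw.eq_of_add_eq_zero' h.symm)
  have n2 : y ∉ ({θ, θ + y} : Finset W) := by
    simp only [Finset.mem_insert, Finset.mem_singleton]
    rintro (h | h)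
    · exact θy h.symm
    · exact θ0 (by simpa using h.symm)
  have n3 : θ ∉ ({θ + y} : Finset W) := by
    simp only [Finset.mem_singleton]
    intro h
    exact y0 (by simpa using h.symm)
  have hc : ({0, y, θ, θ + y} : Finset W).card = 4 := by
    rw [Finset.card_insert_of_notMem n1, Finset.card_insert_of_notMem n2, Finset.card_insert_of_notMem n3,
      Finset.card_singleton]
  change (ln y θ : Set W).ncard = 4
  rw [← h1, Set.ncard_coe_finset, hc]

variable [Finite W]
variable {X : Subgroup (W ≃ₗ[ZMod 2] W)} {y θ : W} {T B : Subgroup (W ≃ₗ[ZMod 2] W)}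

/-- the stabiliser of `{0, y, θ, θ + y}` in `X` -/
def stl (X : Subgroup (W ≃ₗ[ZMod 2] W)) (hX : ∀ x ∈ X, x y = y) (θ : W) : Subgroup (W ≃ₗ[ZMod 2] W) where
  carrier := {x | x ∈ X ∧ (x θ = θ ∨ x θ = θ + y)}
  one_mem' := ⟨one_mem _, Or.inl rfl⟩
  mul_mem' := by
    rintro a b ⟨ha, ha'⟩ ⟨hb, hb'⟩
    refine ⟨mul_mem ha hb, ?_⟩
    have e1 : y + y = 0 := addself y
    rw [LinearEquiv.mul_apply]
    rcases hb' with h | h <;> rw [h]
    · exact ha'
    · rw [map_add, hX a ha]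
      rcases ha' with h' | h' <;> rw [h']
      · exact Or.inr rfl
      · left; rw [add_assoc, e1, add_zero]
  inv_mem' := by
    rintro a ⟨ha, ha'⟩
    refine ⟨inv_mem ha, ?_⟩
    have e1 : y + y = 0 := addself y
    have e2 : a⁻¹ (a θ) = θ := by
      rw [← LinearEquiv.mul_apply, inv_mul_cancel]; rfl
    rcases ha' with h | h
    · left; rw [h] at e2; exact e2
    · right
      rw [h, map_add, hX _ (inv_mem ha)] at e2
      calc a⁻¹ θ = a⁻¹ θ + y + y := by rw [add_assoc, e1, add_zero]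
        _ = θ + y := by rw [e2]

theorem mem_stl {hX : ∀ x ∈ X, x y = y} {x : W ≃ₗ[ZMod 2] W} :
    x ∈ stl X hX θ ↔ x ∈ X ∧ (x θ = θ ∨ x θ = θ + y) := Iff.rfl

theorem stl_le (hX : ∀ x ∈ X, x y = y) : stl X hX θ ≤ X := fun _ h => h.1

theorem Fs.ln_mem (F : Fs X y θ T B) {x : W ≃ₗ[ZMod 2] W} (hx : x ∈ X) (h : x θ = θ ∨ x θ = θ + y) {v : W}
    (hv : v ∈ ln y θ) : x v ∈ ln y θ := by
  have hθ : θ ∈ ln y θ := Or.inr (Or.inr (Or.inl rfl))
  have hy : y ∈ ln y θ := Or.inr (Or.inl rfl)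
  have h1 : x θ ∈ ln y θ := by
    rcases h with h | h <;> rw [h]
    · exact hθ
    · exact Submodule.add_mem _ hθ hy
  rcases hv with rfl | rfl | rfl | rfl
  · rw [map_zero]; exact Submodule.zero_mem _
  · rw [F.base.fix x hx]; exact hy
  · exact h1
  · rw [map_add, F.base.fix x hx]; exact Submodule.add_mem _ h1 hy

theorem Fs.stl_of (F : Fs X y θ T B) {x : W ≃ₗ[ZMod 2] W} (hx : x ∈ X) (h : ∀ v ∈ ln y θ, x v ∈ ln y θ) :
    x θ = θ ∨ x θ = θ + y := by
  have hθ : θ ∈ ln y θ := Or.inr (Or.inr (Or.inl rfl))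
  obtain ⟨n0, ny⟩ := Tvw.Blk.ne_of F.base hx F.θ0 F.θy
  rcases h θ hθ with h | h | h | h
  · exact absurd h n0
  · exact absurd h ny
  · exact Or.inl h
  · exact Or.inr h

theorem Fs.stl_ne (F : Fs X y θ T B) : stl X F.base.fix θ ≠ X := by
  intro he
  have h1 : ln y θ = ⊤ := F.gen _ (Or.inr (Or.inl rfl)) fun x hx => by
    have h2 : x ∈ stl X F.base.fix θ := by rw [he]; exact hx
    exact F.ln_mem hx h2.2 (Or.inr (Or.inr (Or.inl rfl)))
  obtain ⟨t, ht, hte⟩ := F.swap
  have htX := F.TX ht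
  have h3 : t = 1 := by
    refine F.base.faith t htX fun w => ?_
    have hw : w ∈ ln y θ := by rw [h1]; exact Submodule.mem_top
    have e1 : y + y = 0 := addself y
    rcases hw with rfl | rfl | rfl | rfl
    · left; exact map_zero t
    · left; exact F.base.fix t htX
    · right; exact hte
    · right; rw [map_add, hte, F.base.fix t htX]
  rw [h3] at hte
  have h4 : θ = θ + y := hte
  exact F.base.y0 (by simpa using h4.symm)

theorem Fs.T_le (F : Fs X y θ T B) : T ≤ stl X F.base.fix θ := fun t ht => ⟨F.TX ht, F.Tθ t ht⟩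

/-- **(NO)** for the subgroups of `B` -/
theorem Fs.no (hML : ML.Final.MLK.{u, u}) (F : Fs X y θ T B) {C : Subgroup (W ≃ₗ[ZMod 2] W)} (hC : C ≤ B) :
    Nat.card C * Nat.card (cm y C) ≤ Nat.card W := by
  have hR := F.low _ F.T_le (stl_le F.base.fix) F.stl_ne
  refine no_of hML (T := T) (Q := o2 (stl X F.base.fix θ)) (L := ln y θ) F.known F.base F.TX F.two F.syl
    (card_ln F.base.y0 F.θ0 F.θy) (Or.inr (Or.inl rfl)) (fun t ht v hv => F.ln_mem (F.TX ht) (F.Tθ t ht) hv) ?_
    ((o2_le _).trans (stl_le _)) (o2_isPGroup _) ?_ ?_ (hC.trans hR) (fun b hb => F.sq b (hC hb))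
  · intro U hU
    refine F.gen U ?_ fun x hx => hU x hx θ (Or.inr (Or.inr (Or.inl rfl)))
    have := hU 1 (one_mem _) y (Or.inr (Or.inl rfl))
    exact this
  · intro q hq v hv
    have h1 := o2_le _ hq
    exact F.ln_mem h1.1 h1.2 hv
  · intro h hh hL q hq
    have h1 : h ∈ stl X F.base.fix θ := ⟨hh, F.stl_of hh hL⟩
    have h2 := le_normalizer_o2 _ h1
    rw [mem_normalizer_iff] at h2
    exact (h2 _).mp hq

/-- the fixed points of `C` on `W / y` -/
theorem index_eq (F : Fs X y θ T B) (C : Subgroup X) :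
    letI := qact X y F.base.fix
    Nat.card (cm y (C.map X.subtype)) * (cv (QM y) (C : Set X)).index = Nat.card W := by
  let _ := qact X y F.base.fix
  have hfQ : Finite (QM y) := Finite.of_surjective (qm y) (qm_surj y)
  have hsm : ∀ (h : X) (w : W), h • qm y w = qm y ((h : W ≃ₗ[ZMod 2] W) w) := fun _ _ => rfl
  have hCm : ∀ w, qm y w ∈ cv (QM y) (C : Set X) ↔ w ∈ cm y (C.map X.subtype) := by
    intro w
    constructor
    · rintro h1 _ ⟨a, ha, rfl⟩
      have h2 : a • qm y w = qm y w := h1 _ ha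
      rw [hsm, qm_eq] at h2
      exact h2
    · intro h1 a ha
      change a • qm y w = qm y w
      rw [hsm, qm_eq]
      exact h1 _ ⟨a, ha, rfl⟩
  have h1 := card_cm F.base.y0 _ _ hCm
  have h2 : Nat.card (cm y (⊥ : Subgroup (W ≃ₗ[ZMod 2] W))) = 2 * Nat.card (⊤ : Subgroup (QM y)) := by
    refine card_cm F.base.y0 ⊥ ⊤ fun w => ⟨fun _ a ha => ?_, fun _ => mem_top _⟩
    rw [mem_bot.mp ha]; left; rfl
  have h3 : Nat.card (cm y (⊥ : Subgroup (W ≃ₗ[ZMod 2] W))) = Nat.card W := by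
    have : cm y (⊥ : Subgroup (W ≃ₗ[ZMod 2] W)) = Set.univ := by
      rw [Set.eq_univ_iff_forall]
      intro w a ha
      rw [mem_bot.mp ha]; left; rfl
    rw [this, Nat.card_univ]
  rw [h3, Subgroup.card_top] at h2
  have h4 := (cv (QM y) (C : Set X)).card_mul_index
  rw [h1, h2, ← h4]
  ring

theorem map_sub {C : Subgroup (W ≃ₗ[ZMod 2] W)} (hC : C ≤ X) : (C.subgroupOf X).map X.subtype = C := by
  rw [subgroupOf_map_subtype, inf_eq_left.mpr hC]

theorem card_sub {C : Subgroup (W ≃ₗ[ZMod 2] W)} (hC : C ≤ X) : Nat.card (C.subgroupOf X) = Nat.card C :=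
  Nat.card_congr (subgroupOfEquivOfLe hC).toEquiv

theorem card_map (C : Subgroup X) : Nat.card (C.map X.subtype) = Nat.card C :=
  (Nat.card_congr (C.equivMapOfInjective _ X.subtype_injective).toEquiv).symm

/-- **From `Fs` to `Ps`** -/
theorem Fs.ps (hML : ML.Final.MLK.{u, u}) (F : Fs X y θ T B)
    (hn : ¬ ∃ N : Subgroup (W ≃ₗ[ZMod 2] W), N ≤ X ∧ N ≠ X ∧
      ∀ R : Subgroup (W ≃ₗ[ZMod 2] W), T ≤ R → R ≤ X → R ≠ X → R ≤ N) :
    letI := wact X
    letI := qact X y F.base.fix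
    Ps (X := X) (M := QM y) (W := Multiplicative W) (T.subgroupOf X) (B.subgroupOf X) (qp y)
      (Multiplicative.ofAdd y) (Multiplicative.ofAdd θ) := by
  let _ := wact X
  let _ := qact X y F.base.fix
  have hfin : Finite (W ≃ₗ[ZMod 2] W) := DFunLike.finite _
  have hfQ : Finite (QM y) := Finite.of_surjective (qm y) (qm_surj y)
  have hBX : B ≤ X := F.BT.trans F.TX
  have hsm : ∀ (h : X) (w : W), h • qm y w = qm y ((h : W ≃ₗ[ZMod 2] W) w) := fun _ _ => rfl
  have hqp : ∀ w : W, qp y (Multiplicative.ofAdd w) = qm y w := fun _ => rfl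
  have hlow : ∀ R : Subgroup X, T.subgroupOf X ≤ R → R ≠ ⊤ → B.subgroupOf X ≤ o2 R := by
    intro R hTR hR
    refine le_trans ?_ (o2_map R)
    have h1 : B ≤ o2 (R.map X.subtype) := by
      refine F.low _ ?_ (map_subtype_le _) ?_
      · rw [← map_sub F.TX]
        exact map_mono hTR
      · intro he
        apply hR
        rw [eq_top_iff]
        intro x _
        have h2 : (x : W ≃ₗ[ZMod 2] W) ∈ R.map X.subtype := by rw [he]; exact x.2
        obtain ⟨r, hr, hrx⟩ := h2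
        have : r = x := Subtype.ext hrx
        rwa [← this]
    exact comap_mono h1
  have hWpos : 0 < Nat.card W := Nat.card_pos
  refine
    { known := F.known
      sq := fun w => ?_
      eqv := fun x w => rfl
      surj := fun v => ?_
      ker := fun w => ?_
      y1 := fun h => F.base.y0 (Multiplicative.ofAdd.injective h)
      fixy := fun x => ?_
      faith := fun x hx => ?_
      core := fun N hN h2 => ?_
      two := F.two.comap_subtype
      syl := F.syl
      fixT := fun w hw => ?_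
      Tθ := fun t ht => ?_
      θ1 := ?_
      gen := fun U hU hθ => ?_
      BT := comap_mono F.BT
      el := fun b hb => Subtype.ext (F.sq _ hb)
      quad := fun a ha b hb m => ?_
      four := ?_
      exact := ?_
      atom := fun C hCB hC1 hCn => ?_
      low := hlow
      nmax := ?_ }
  · exact addself (Multiplicative.toAdd w)
  · obtain ⟨w, rfl⟩ := qm_surj y v
    exact ⟨Multiplicative.ofAdd w, rfl⟩
  · have h1 : qp y w = 1 ↔ qm y (Multiplicative.toAdd w) = qm y 0 := Iff.rfl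
    rw [h1, qm_eq, zero_add]
    exact Iff.rfl
  · exact congrArg Multiplicative.ofAdd (F.base.fix x.1 x.2)
  · apply Subtype.ext
    refine F.base.faith _ x.2 fun w => ?_
    have h1 : x • qm y w = qm y w := hx _
    rw [hsm, qm_eq] at h1
    exact h1
  · have h1 : N.map X.subtype = ⊥ := by
      refine F.base.core _ (map_subtype_le _) ?_ (h2.map _)
      rintro h hh _ ⟨n, hn', rfl⟩
      exact ⟨⟨h, hh⟩ * n * ⟨h, hh⟩⁻¹, hN.conj_mem n hn' _, rfl⟩
    exact (map_eq_bot_iff_of_injective _ X.subtype_injective).mp h1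
  · exact F.fixT (Multiplicative.toAdd w) fun t ht => hw ⟨t, F.TX ht⟩ ht
  · rw [hqp, hsm, qm_eq]
    exact F.Tθ _ ht
  · rw [hqp]
    intro h
    rw [← qm_zero y, qm_eq, zero_add] at h
    exact h.elim F.θ0 F.θy
  · -- generation
    let V : Submodule (ZMod 2) W :=
      { carrier := {w | qm y w ∈ U}
        zero_mem' := by
          change qm y 0 ∈ U
          rw [qm_zero]; exact one_mem _
        add_mem' := fun {a c} ha hc => by
          change qm y (a + c) ∈ U
          rw [qm_add]; exact mul_mem ha hc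
        smul_mem' := fun c w hw => by
          change qm y (c • w) ∈ U
          rcases z2 c with rfl | rfl
          · rw [zero_smul, qm_zero]; exact one_mem _
          · rw [one_smul]; exact hw }
    have hV : V = ⊤ := by
      refine F.gen V ?_ fun x hx => ?_
      · change qm y y ∈ U
        have : qm y y = qm y 0 := qm_eq.mpr (Or.inr (by rw [zero_add]))
        rw [this, qm_zero]; exact one_mem _
      · exact hU ⟨x, hx⟩ _ hθ
    rw [eq_top_iff]
    intro v _
    obtain ⟨w, rfl⟩ := qm_surj y v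
    have : w ∈ V := by rw [hV]; exact Submodule.mem_top
    exact this
  · -- quadratic
    obtain ⟨w, rfl⟩ := qm_surj y m
    have hinv : (qm y w)⁻¹ = qm y w := by
      rw [inv_eq_iff_mul_eq_one, ← qm_add, addself, qm_zero]
    have h1 : (a • qm y w) * (qm y w)⁻¹ = qm y ((a : W ≃ₗ[ZMod 2] W) w + w) := by
      rw [hinv, qm_add, hsm]
    rw [h1, hsm, qm_eq]
    exact F.quadM _ ha _ hb w
  · rw [card_sub hBX]; exact F.four
  · -- exact
    have h1 := index_eq F (B.subgroupOf X)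
    rw [map_sub hBX] at h1
    have h2 : Nat.card B * Nat.card (cm y B) = Nat.card W := F.atom.ex
    have h3 : 0 < Nat.card (cm y B) := Nat.pos_of_ne_zero fun h0 => by
      rw [h0, mul_zero] at h2; omega
    rw [card_sub hBX]
    refine Nat.eq_of_mul_eq_mul_left h3 ?_
    rw [h1, ← h2, mul_comm]
  · -- atom
    have hCm : C.map X.subtype ≤ B := by
      rw [← map_sub hBX]; exact map_mono hCB
    have h1 := index_eq F C
    have h2 := F.no hML hCm
    rw [card_map] at h2
    have h3 : 0 < Nat.card (cm y (C.map X.subtype)) := Nat.pos_of_ne_zero fun h0 => by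
      rw [h0, zero_mul] at h1; omega
    have h4 : Nat.card C ≤ (cv (QM y) (C : Set X)).index := by
      refine Nat.le_of_mul_le_mul_left ?_ h3
      rw [h1, mul_comm]; exact h2
    refine lt_of_le_of_ne h4 fun he => hCn ?_
    have h5 : MEx y (C.map X.subtype) := by
      show Nat.card (C.map X.subtype) * Nat.card (cm y (C.map X.subtype)) = Nat.card W
      rw [card_map, he, mul_comm]; exact h1
    have h6 : C.map X.subtype = B := by
      refine F.atom.min _ hCm (fun h0 => hC1 ?_) h5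
      exact (map_eq_bot_iff_of_injective _ X.subtype_injective).mp h0
    have h7 : (C.map X.subtype).subgroupOf X = C := comap_map_eq_self_of_injective X.subtype_injective _
    rw [← h7, h6]
  · -- nmax
    rintro ⟨N, hN, hN'⟩
    apply hn
    refine ⟨N.map X.subtype, map_subtype_le _, ?_, fun R hTR hRX hR => ?_⟩
    · intro he
      apply hN
      rw [eq_top_iff]
      intro x _
      have h2 : (x : W ≃ₗ[ZMod 2] W) ∈ N.map X.subtype := by rw [he]; exact x.2
      obtain ⟨r, hr, hrx⟩ := h2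
      have : r = x := Subtype.ext hrx
      rwa [← this]
    · rw [← map_sub hRX]
      refine map_mono (hN' _ (comap_mono hTR) fun h => hR ?_)
      rw [subgroupOf_eq_top] at h
      exact le_antisymm hRX h

/-! ### (nmax), (LA) and `PsR` -/

/-- **(nmax)** (helper728) -/
theorem Fs.nmax (F : Fs X y θ T B) : ¬ ∃ N : Subgroup (W ≃ₗ[ZMod 2] W), N ≤ X ∧ N ≠ X ∧
    ∀ R : Subgroup (W ≃ₗ[ZMod 2] W), T ≤ R → R ≤ X → R ≠ X → R ≤ N := by
  rintro ⟨N, hN, hNX, hmax⟩
  refine Act.no_min F.base F.TX F.two F.syl F.fixT F.θ0 F.θy F.Tθ F.gen F.BT F.sq F.atom F.four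
    (M0 := N) (fun h => hNX (le_antisymm hN h)) fun K hTK hKX => ?_
  by_cases h : K = X
  · exact Or.inr h
  · exact Or.inl (hmax K hTK hKX h)

/-- `o2` of the image, the other inclusion -/
theorem map_o2 {G : Type*} [Group G] {X : Subgroup G} (R : Subgroup X) :
    (o2 R).map X.subtype ≤ o2 (R.map X.subtype) := by
  refine le_o2 (map_mono (o2_le R)) ((o2_isPGroup _).map _) ?_
  rintro _ ⟨r, hr, rfl⟩
  rw [mem_normalizer_iff]
  have h2 := le_normalizer_o2 _ hr
  rw [mem_normalizer_iff] at h2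
  intro x
  constructor
  · rintro ⟨q, hq, rfl⟩
    exact ⟨r * q * r⁻¹, (h2 q).mp hq, rfl⟩
  · rintro ⟨q, hq, he⟩
    refine ⟨r⁻¹ * q * r, ?_, ?_⟩
    · refine (h2 _).mpr ?_
      have : r * (r⁻¹ * q * r) * r⁻¹ = q := by group
      rw [this]; exact hq
    · have he' : (q : G) = r * x * (r : G)⁻¹ := he
      change (r : G)⁻¹ * q * r = x
      rw [he']; group

section conj

variable {g : W ≃ₗ[ZMod 2] W}

theorem mem_cj' {G : Type*} [Group G] {g : G} {C : Subgroup G} {x : G} :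
    x ∈ C.map (MulAut.conj g).toMonoidHom ↔ g⁻¹ * x * g ∈ C := Omega.NOThree.NoOver.mem_cj

theorem cm_conj (hg : g y = y) (C : Subgroup (W ≃ₗ[ZMod 2] W)) (w : W) :
    g w ∈ cm y (C.map (MulAut.conj g).toMonoidHom) ↔ w ∈ cm y C := by
  have key : ∀ c : W ≃ₗ[ZMod 2] W, (g * c * g⁻¹) (g w) = g (c w) := by
    intro c
    have e : (g * c * g⁻¹) (g w) = g (c (g⁻¹ (g w))) := rfl
    rw [e, ← LinearEquiv.mul_apply g⁻¹ g, inv_mul_cancel]; rfl
  have key2 : ∀ c : W ≃ₗ[ZMod 2] W, ((g * c * g⁻¹) (g w) = g w ∨ (g * c * g⁻¹) (g w) = g w + y) ↔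
      (c w = w ∨ c w = w + y) := by
    intro c
    rw [key]
    have e : g w + y = g (w + y) := by rw [map_add, hg]
    rw [e]
    exact or_congr g.injective.eq_iff g.injective.eq_iff
  constructor
  · intro h c hc
    exact (key2 c).mp (h _ ⟨c, hc, rfl⟩)
  · rintro h _ ⟨c, hc, rfl⟩
    exact (key2 c).mpr (h c hc)

theorem card_cm_conj (hg : g y = y) (C : Subgroup (W ≃ₗ[ZMod 2] W)) :
    Nat.card (cm y (C.map (MulAut.conj g).toMonoidHom)) = Nat.card (cm y C) := by
  refine (Nat.card_congr (Equiv.subtypeEquiv g.toEquiv fun w => ?_)).symm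
  exact (cm_conj hg C w).symm

theorem card_conj {G : Type*} [Group G] (g : G) (C : Subgroup G) :
    Nat.card (C.map (MulAut.conj g).toMonoidHom) = Nat.card C :=
  (Nat.card_congr (C.equivMapOfInjective _ (MulAut.conj g).injective).toEquiv).symm

theorem MEx_conj (hg : g y = y) {C : Subgroup (W ≃ₗ[ZMod 2] W)} :
    MEx y (C.map (MulAut.conj g).toMonoidHom) ↔ MEx y C := by
  unfold MEx
  rw [card_cm_conj hg, card_conj]

theorem conj_conj_inv {G : Type*} [Group G] (g : G) (C : Subgroup G) :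
    (C.map (MulAut.conj g⁻¹).toMonoidHom).map (MulAut.conj g).toMonoidHom = C := by
  ext x
  rw [mem_cj', mem_cj']
  have : g⁻¹⁻¹ * (g⁻¹ * x * g) * g⁻¹ = x := by group
  rw [this]

theorem MAtom_conj (hg : g y = y) {C : Subgroup (W ≃ₗ[ZMod 2] W)} (h : MAtom y C) :
    MAtom y (C.map (MulAut.conj g).toMonoidHom) where
  ne := fun h0 => h.ne ((map_eq_bot_iff_of_injective _ (MulAut.conj g).injective).mp h0)
  ex := (MEx_conj hg).mpr h.ex
  min := by
    intro D hD hD1 hDe
    have e : (D.map (MulAut.conj g⁻¹).toMonoidHom).map (MulAut.conj g).toMonoidHom = D := conj_conj_inv g D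
    have h1 : D.map (MulAut.conj g⁻¹).toMonoidHom ≤ C := by
      rintro _ ⟨d, hd, rfl⟩
      obtain ⟨c, hc, hcd⟩ := hD hd
      have h2 : g * c * g⁻¹ = d := hcd
      change g⁻¹ * d * g⁻¹⁻¹ ∈ C
      rw [← h2]
      have : g⁻¹ * (g * c * g⁻¹) * g⁻¹⁻¹ = c := by group
      rw [this]; exact hc
    have h2 : D.map (MulAut.conj g⁻¹).toMonoidHom ≠ ⊥ := fun h0 => hD1 (by
      rw [← e, h0, Subgroup.map_bot])
    have h3 : MEx y (D.map (MulAut.conj g⁻¹).toMonoidHom) := by
      rw [← MEx_conj hg, e]; exact hDe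
    rw [← e, h.min _ h1 h2 h3]

end conj

/-- **From `Fs` and `FsLa` to `PsR`** -/
theorem Fs.psR (hML : ML.Final.MLK.{u, u}) (F : Fs X y θ T B) (hla : FsLa X y θ T) :
    letI := wact X
    letI := qact X y F.base.fix
    ML.Ex.PsR (X := X) (M := QM y) (W := Multiplicative W) (T.subgroupOf X) (B.subgroupOf X) (qp y) (qm y θ) := by
  let _ := wact X
  let _ := qact X y F.base.fix
  have hsm : ∀ (h : X) (w : W), h • qm y w = qm y ((h : W ≃ₗ[ZMod 2] W) w) := fun _ _ => rfl
  have P := F.ps hML F.nmax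
  have hBX : B ≤ X := F.BT.trans F.TX
  refine
    { known := P.known
      sq := P.sq
      eqv := P.eqv
      surj := P.surj
      ker := fun w hw x => ?_
      faith := P.faith
      core := P.core
      two := P.two
      syl := P.syl
      fixT := fun w hw => (P.ker w).mpr (P.fixT w hw)
      gen := P.gen
      BT := P.BT
      el := P.el
      quad := P.quad
      four := P.four
      exact := P.exact
      atom := P.atom
      low := P.low
      nmax := P.nmax
      la := ⟨P.Tθ, P.θ1, ?_⟩ }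
  · rcases (P.ker w).mp hw with rfl | rfl
    · exact smul_one x
    · exact P.fixy x
  · intro g hg R hTR hR
    have hgX : (g : W ≃ₗ[ZMod 2] W) ∈ X := g.2
    have hgy : (g : W ≃ₗ[ZMod 2] W) y = y := F.base.fix _ g.2
    set S : Subgroup X := MulAction.stabilizer X (qm y θ) with hS
    have hSm : S.map X.subtype = stl X F.base.fix θ := by
      ext x
      constructor
      · rintro ⟨s, hs, rfl⟩
        have h1 : s • qm y θ = qm y θ := hs
        rw [hsm, qm_eq] at h1
        exact ⟨s.2, h1⟩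
      · rintro ⟨hx, h1⟩
        refine ⟨⟨x, hx⟩, ?_, rfl⟩
        change (⟨x, hx⟩ : X) • qm y θ = qm y θ
        rw [hsm, qm_eq]; exact h1
    set B₁ := B.map (MulAut.conj (g : W ≃ₗ[ZMod 2] W)).toMonoidHom with hB₁
    have e1 : (Omega.NOThree.NoOver.cj g (B.subgroupOf X)).map X.subtype = B₁ := by
      ext x
      constructor
      · rintro ⟨c, ⟨b, hb, rfl⟩, rfl⟩
        exact ⟨b, hb, rfl⟩
      · rintro ⟨b, hb, rfl⟩
        exact ⟨g * ⟨b, hBX hb⟩ * g⁻¹, ⟨⟨b, hBX hb⟩, hb, rfl⟩, rfl⟩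
    have h1 : B₁ ≤ o2 (stl X F.base.fix θ) := by
      rw [← e1, ← hSm]
      exact (map_mono hg).trans (map_o2 S)
    have e2 : ∀ (b : W ≃ₗ[ZMod 2] W) (w : W), (g * b * (g : W ≃ₗ[ZMod 2] W)⁻¹) w =
        (g : W ≃ₗ[ZMod 2] W) (b ((g : W ≃ₗ[ZMod 2] W)⁻¹ w)) := fun _ _ => rfl
    have e3 : ∀ w : W, (g : W ≃ₗ[ZMod 2] W) ((g : W ≃ₗ[ZMod 2] W)⁻¹ w) = w := by
      intro w
      rw [← LinearEquiv.mul_apply, mul_inv_cancel]; rfl
    have e4 : ∀ w : W, (g : W ≃ₗ[ZMod 2] W)⁻¹ ((g : W ≃ₗ[ZMod 2] W) w) = w := by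
      intro w
      rw [← LinearEquiv.mul_apply, inv_mul_cancel]; rfl
    have h2 : B₁ ≤ o2 (R.map X.subtype) := by
      refine hla (stl X F.base.fix θ) (fun _ => Iff.rfl) B₁ h1 ?_ ?_ (MAtom_conj hgy F.atom)
        (by rw [hB₁, card_conj]; exact F.four) _ ?_ (map_subtype_le _) ?_
      · rintro _ ⟨b, hb, rfl⟩
        rw [← map_mul, F.sq b hb, map_one]
      · rintro _ ⟨a, ha, rfl⟩ _ ⟨b, hb, rfl⟩ w
        have h3 := F.quadM a ha b hb ((g : W ≃ₗ[ZMod 2] W)⁻¹ w)
        change (g * b * (g : W ≃ₗ[ZMod 2] W)⁻¹) ((g * a * (g : W ≃ₗ[ZMod 2] W)⁻¹) w + w) =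
          (g * a * (g : W ≃ₗ[ZMod 2] W)⁻¹) w + w ∨ (g * b * (g : W ≃ₗ[ZMod 2] W)⁻¹)
          ((g * a * (g : W ≃ₗ[ZMod 2] W)⁻¹) w + w) = (g * a * (g : W ≃ₗ[ZMod 2] W)⁻¹) w + w + y
        have e5 : (g * a * (g : W ≃ₗ[ZMod 2] W)⁻¹) w + w = (g : W ≃ₗ[ZMod 2] W)
            (a ((g : W ≃ₗ[ZMod 2] W)⁻¹ w) + (g : W ≃ₗ[ZMod 2] W)⁻¹ w) := by
          rw [e2, map_add, e3]
        rw [e5, e2, e4]
        rcases h3 with h3 | h3 <;> rw [h3]
        · exact Or.inl rfl
        · right; rw [map_add _ (a _ + _) y, hgy]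
      · rw [← map_sub F.TX]; exact map_mono hTR
      · intro he
        apply hR
        rw [eq_top_iff]
        intro x _
        have h2 : (x : W ≃ₗ[ZMod 2] W) ∈ R.map X.subtype := by rw [he]; exact x.2
        obtain ⟨r, hr, hrx⟩ := h2
        have : r = x := Subtype.ext hrx
        rwa [← this]
    refine le_trans ?_ (o2_map R)
    intro c hc
    rw [mem_subgroupOf]
    apply h2
    rw [← e1]
    exact ⟨c, hc, rfl⟩

end ps

end Cfsg.Agent.Omega.FOne.Glue

end

section


/-!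
# (F1'), the K-route: `AtomTwo`, `PTv`, `FOneP` from the pieces (helper854)

* `ToFs` : THEOREM A + the REDUCTION (helper297 #20655; helper396);
* `ML.Ex.EndPieces` : RED with the W-part and (LA), the K-list, the rows (file `ML/Ex/LA.lean`);
* `atomTwo_of`, `ptv_of`, `fOneP_of`.
-/

set_option autoImplicit false
set_option linter.unusedSectionVars false

namespace Cfsg.Agent.Omega.FOne.Glue

open Subgroup Cfsg
open Cfsg.Agent.Omega.FOne.NOv
open Cfsg.Agent.Omega.ML.Ex (EndPieces PsR)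

universe u v w

/-- (nmax) -/
def FsNmax : Prop :=
  ∀ (W : Type u) [AddCommGroup W] [Module (ZMod 2) W] [Finite W] (X : Subgroup (W ≃ₗ[ZMod 2] W)) (y θ : W)
    (T B : Subgroup (W ≃ₗ[ZMod 2] W)), Fs X y θ T B →
    ¬ ∃ N : Subgroup (W ≃ₗ[ZMod 2] W), N ≤ X ∧ N ≠ X ∧
      ∀ R : Subgroup (W ≃ₗ[ZMod 2] W), T ≤ R → R ≤ X → R ≠ X → R ≤ N

/-- the rows with the W-part -/
abbrev DeadXW (𝒮 : ∀ (S : Type u) [Group S], Prop) : Prop := ML.Ex.DeadXW.{u, v, w} 𝒮

/-- **THEOREM A + REDUCTION** : a counterexample to `AtomTwo` gives a faithful section with (LA) -/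
def ToFs : Prop :=
  ∀ (W : Type u) [AddCommGroup W] [Module (ZMod 2) W] [Finite W] (H : Subgroup (W ≃ₗ[ZMod 2] W)) (y : W)
    (T N A B : Subgroup (W ≃ₗ[ZMod 2] W)) (L : Submodule (ZMod 2) W), Sw H y T N L → Ax y N A → B ≤ A →
    MAtom y B → Nat.card B ≠ 2 →
    ∃ (W' : Type u) (_ : AddCommGroup W') (_ : Module (ZMod 2) W') (_ : Finite W')
      (X : Subgroup (W' ≃ₗ[ZMod 2] W')) (y' θ : W') (T' B' : Subgroup (W' ≃ₗ[ZMod 2] W')),
      Fs X y' θ T' B' ∧ FsLa X y' θ T'

/-- `PsR` does not occur -/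
def DeadR : Prop :=
  ∀ (X : Type u) [Group X] [Finite X] (M : Type u) [CommGroup M] [Finite M] [MulDistribMulAction X M]
    (W : Type u) [CommGroup W] [Finite W] [MulDistribMulAction X W] (T B : Subgroup X) (p : W →* M) (m : M),
    ¬ PsR T B p m

theorem deadR_of (E : EndPieces.{u, u, u}) : DeadR.{u} := fun X _ _ M _ _ _ W _ _ _ T B p m h => E.false h

/-- **`AtomTwo`** -/
theorem atomTwo_of (hT : ToFs.{u}) (hD : DeadR.{u}) (hML : ML.Final.MLK.{u, u}) : AtomTwo.{u} := by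
  intro W _ _ _ H y T N A B L S X hBA hB
  by_contra hcon
  obtain ⟨W', _, _, _, X', y', θ, T', B', F, hla⟩ := hT W H y T N A B L S X hBA hB hcon
  have hfin : Finite (W' ≃ₗ[ZMod 2] W') := DFunLike.finite _
  have hfQ : Finite (QM y') := Finite.of_surjective (qm y') (qm_surj y')
  let _ := wact X'
  let _ := qact X' y' F.base.fix
  exact hD X' (QM y') (Multiplicative W') _ _ _ _ (F.psR hML hla)

/-- **`PTv`** -/
theorem ptv_of (hT : ToFs.{u}) (hD : DeadR.{u}) (hML : ML.Final.MLK.{u, u}) : PTv.{u} :=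
  NOv.ptv_of (atomTwo_of hT hD hML) NOv.trSwap

/-- **(F1) for the leaf `TwoOne`** -/
theorem fOneP_of (hT : ToFs.{u}) (hD : DeadR.{u}) (hML : ML.Final.MLK.{u, u}) (K : Frame.Cls.{u}) :
    NO3S.TwoOne.FOneP K :=
  NOv.fOneP_of K hML (ptv_of hT hD hML)

end Cfsg.Agent.Omega.FOne.Glue

end

section


/-!
# (F1'), `ToFs` from (ML) and THEOREM A
-/

set_option autoImplicit false
set_option linter.unusedSectionVars false

namespace Cfsg.Agent.Omega.FOne.ThmA

open Subgroup Cfsg Cfsg.Agent.ZN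
open Cfsg.Agent.Omega.FOne.NOv

universe u

theorem fsLa_of {W : Type u} [AddCommGroup W] [Module (ZMod 2) W] {X T : Subgroup (W ≃ₗ[ZMod 2] W)} {y θ : W}
    (st : St X y θ T) (la : LA X y θ T) : Glue.FsLa X y θ T := by
  intro Z hZ B₁ hB sq quad atom four R hT hR hRX
  have h1 : Z = Fq X y {θ} := by
    ext x
    rw [hZ, mem_Fq]
    constructor
    · rintro ⟨h1, h2⟩
      exact ⟨h1, st.base.fix x h1, by rintro v rfl; exact h2⟩
    · rintro ⟨h1, -, h2⟩
      exact ⟨h1, h2 θ rfl⟩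
  rw [h1] at hB
  exact (la B₁ ⟨hB, sq, quad, atom, four⟩ R hT hR hRX).1

/-- **`ToFs`** from (ML) and THEOREM A -/
theorem toFs_of (hML : ML.Final.MLK.{u, u}) (hA : ThA.{u}) : Glue.ToFs.{u} := by
  intro W _ _ _ H y T N A B L s a hBA hB h2
  obtain ⟨θ, st, g⟩ := start s a hBA hB h2
  obtain ⟨W', i1, i2, i3, X', y', θ', T', B', st', g', la⟩ := exists_min hML hA _ W H y θ T B rfl st g
  exact ⟨W', i1, i2, i3, X', y', θ', T', B', fs_of st' g' la, fsLa_of st' la⟩

end Cfsg.Agent.Omega.FOne.ThmA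

end

section


/-!
# (F1'): `ToFs`, `AtomTwo`, `PTv`, `FOneP` from (ML) and `EndPieces`
-/

set_option autoImplicit false

namespace Cfsg.Agent.Omega.FOne.ThmR

open Subgroup Cfsg
open Cfsg.Agent.Omega.ML.Ex (EndPieces)

universe u

/-- **`ToFs`** from (ML) -/
theorem toFs (hML : ML.Final.MLK.{u, u}) : Glue.ToFs.{u} := ThmA.toFs_of hML (thA hML)

/-- **`AtomTwo`** from (ML) and the last pieces -/
theorem atomTwo (hML : ML.Final.MLK.{u, u}) (E : EndPieces.{u, u, u}) : NOv.AtomTwo.{u} :=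
  Glue.atomTwo_of (toFs hML) (Glue.deadR_of E) hML

/-- **`PTv`** from (ML) and the last pieces -/
theorem ptv (hML : ML.Final.MLK.{u, u}) (E : EndPieces.{u, u, u}) : NOv.PTv.{u} :=
  Glue.ptv_of (toFs hML) (Glue.deadR_of E) hML

/-- **(F1)** from (ML) and the last pieces -/
theorem fOneP (hML : ML.Final.MLK.{u, u}) (E : EndPieces.{u, u, u}) (K : Frame.Cls.{u}) : NO3S.TwoOne.FOneP K :=
  Glue.fOneP_of (toFs hML) (Glue.deadR_of E) hML K

end Cfsg.Agent.Omega.FOne.ThmR

end

section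


/-!
# (F1'), `ToFs` from (ML) : THEOREM A (helper425) and the REDUCTION
-/

set_option autoImplicit false

namespace Cfsg.Agent.Omega.FOne.ThmA

universe u

/-- **`ToFs`** -/
theorem toFs (hML : ML.Final.MLK.{u, u}) : Glue.ToFs.{u} := toFs_of hML (ThmR.thA hML)

end Cfsg.Agent.Omega.FOne.ThmA

end

section


/-!
# (F1'), the K-route: `ToFs` from THEOREM A (helper854; the reduction is helper396's)
-/

set_option autoImplicit false

namespace Cfsg.Agent.Omega.FOne.Glue

open Subgroup Cfsg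
open Cfsg.Agent.ZN (o2)
open Cfsg.Agent.Omega.FOne.NOv

universe u

theorem fsLa_of {W : Type u} [AddCommGroup W] [Module (ZMod 2) W] [Finite W] {X : Subgroup (W ≃ₗ[ZMod 2] W)} {y θ : W}
    {T B : Subgroup (W ≃ₗ[ZMod 2] W)} (F : Fs X y θ T B) (la : ThmA.LA X y θ T) : FsLa X y θ T := by
  intro Z hZ B₁ hB hsq hq hat h4 R hTR hRX hR
  have e : Z = ThmA.Fq X y {θ} := by
    ext x
    rw [hZ]
    constructor
    · rintro ⟨hx, h⟩
      refine ⟨hx, F.base.fix x hx, fun v hv => ?_⟩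
      rw [Set.mem_singleton_iff.mp hv]; exact h
    · rintro ⟨hx, -, h⟩
      exact ⟨hx, h θ rfl⟩
  rw [e] at hB
  exact (la B₁ ⟨hB, hsq, hq, hat, h4⟩ R hTR hRX hR).1

/-- **`ToFs` from THEOREM A** -/
theorem toFs_of (hML : ML.Final.MLK.{u, u}) (hA : ThmA.ThA.{u}) : ToFs.{u} := by
  intro W _ _ _ H y T N A B L S X hBA hB h2
  obtain ⟨W', i1, i2, i3, X', y', θ', T', B', F, -, la⟩ := ThmA.reduction hML hA S X hBA hB h2
  exact ⟨W', i1, i2, i3, X', y', θ', T', B', F, fsLa_of F la⟩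

/-- **`PTv`** from THEOREM A and `DeadR` -/
theorem ptv_of' (hA : ThmA.ThA.{u}) (hD : DeadR.{u}) (hML : ML.Final.MLK.{u, u}) : PTv.{u} :=
  ptv_of (toFs_of hML hA) hD hML

/-- **(F1) for the leaf `TwoOne`** from THEOREM A and `DeadR` -/
theorem fOneP_of' (hA : ThmA.ThA.{u}) (hD : DeadR.{u}) (hML : ML.Final.MLK.{u, u}) (K : Frame.Cls.{u}) :
    NO3S.TwoOne.FOneP K :=
  fOneP_of (toFs_of hML hA) hD hML K

end Cfsg.Agent.Omega.FOne.Glue

end
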